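import Groth.Agent.L13.ThickNode.Smooth

/-! An algebra cannot be smooth near the node branch through a prime containing the thickness. -/

set_option autoImplicit false
set_option maxSynthPendingDepth 3
universe u

open IsLocalRing TrivSqZeroExt

namespace Groth.Agent.L13.ThickNode

theorem exists_prime_forall_not_smooth {R : Type u} [CommRing R] [IsNoetherianRing R] [IsLocalRing R]
    [IsAdicComplete (maximalIdeal R) R] (p : Ideal R) [p.IsPrime]
    {B A : Type u} [CommRing B] [Algebra R B] [CommRing A] [IsNoetherianRing A] [IsLocalRing A]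
    [Algebra B A] (m : Ideal B) [m.IsPrime] [IsLocalization.AtPrime A m]
    {φ : R →+* A} (hφ : ∀ r, φ r = algebraMap B A (algebraMap R B r))
    {a : R} (h : DualGr.IsThickNode φ a) (ha : a ∈ p) :
    ∃ Q : Ideal B, Q.IsPrime ∧ Q.comap (algebraMap R B) = p ∧
      ∀ g ∉ Q, ¬ Algebra.Smooth R (Localization.Away g) := by
  classical
  obtain ⟨θ, hθφ, ⟨α, β, hα, hβ⟩, hchain⟩ := exists_tangent p h ha
  let θB : B →+* Tan p := θ.comp (algebraMap B A)
  let π : B →+* p.ResidueField :=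
    ((TrivSqZeroExt.fstHom p.ResidueField p.ResidueField (p.ResidueField × p.ResidueField)).toRingHom).comp θB
  let Q : Ideal B := RingHom.ker π
  have hQm : ∀ x, x ∉ m → (θB x).fst ≠ 0 := fun x hx => by
    have hu : IsUnit (algebraMap B A x) := IsLocalization.map_units A (⟨x, hx⟩ : m.primeCompl)
    exact (TrivSqZeroExt.isUnit_iff_isUnit_fst.1 (hu.map θ)).ne_zero
  refine ⟨Q, RingHom.ker_isPrime π, ?_, fun g hg hsm => ?_⟩
  · ext r
    show (θ (algebraMap B A (algebraMap R B r))).fst = 0 ↔ r ∈ p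
    rw [← hφ, hθφ, fst_inl, Ideal.algebraMap_residueField_eq_zero]
  let S := Localization.Away g
  have hgu : IsUnit (θB g) :=
    TrivSqZeroExt.isUnit_iff_isUnit_fst.2 (isUnit_iff_ne_zero.2 fun h0 => hg h0)
  let θS : S →+* Tan p := IsLocalization.Away.lift g hgu
  have hθS : ∀ b, θS (algebraMap B S b) = θB b := fun b => IsLocalization.Away.lift_eq g hgu b
  -- lift `α`, `β`
  have hlift : ∀ (z : A) (v : p.ResidueField × p.ResidueField), θ z = inr v →
      ∃ (b : B) (c : p.ResidueField), c ≠ 0 ∧ θB b = inr (c • v) := by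
    intro z v hz
    obtain ⟨⟨b, t⟩, hbt⟩ := IsLocalization.surj m.primeCompl z
    refine ⟨b, (θB t.1).fst, hQm _ t.2, ?_⟩
    show θ (algebraMap B A b) = _
    rw [← hbt, map_mul, hz]
    refine TrivSqZeroExt.ext ?_ ?_
    · simp
    · simp [θB]
  obtain ⟨b₁, c₁, hc₁, hb₁⟩ := hlift α _ hα
  obtain ⟨b₂, c₂, hc₂, hb₂⟩ := hlift β _ hβ
  -- rescale inside the residue field
  have hscale : ∀ (b : B) (c : p.ResidueField) (v : p.ResidueField × p.ResidueField), θB b = inr (c • v) →
      c ≠ 0 → (TrivSqZeroExt.inl c⁻¹ : Tan p) * θB b = inr v := by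
    intro b c v hb hc
    rw [hb, TrivSqZeroExt.inl_mul_inr, smul_smul, inv_mul_cancel₀ hc, one_smul]
  -- choose fractions `r/s` of `R/p` representing the inverse scalars
  have hfrac : ∀ c : p.ResidueField, ∃ r s : R, s ∉ p ∧
      c * algebraMap R p.ResidueField s = algebraMap R p.ResidueField r := by
    intro c
    obtain ⟨⟨x, y⟩, hxy⟩ := IsLocalization.surj (nonZeroDivisors (R ⧸ p)) c
    obtain ⟨r, rfl⟩ := Ideal.Quotient.mk_surjective x
    obtain ⟨s, hs⟩ := Ideal.Quotient.mk_surjective y.1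
    refine ⟨r, s, ?_, ?_⟩
    · rw [← Ideal.Quotient.eq_zero_iff_mem, hs]; exact nonZeroDivisors.ne_zero y.2
    · simp only [← hs] at hxy
      simpa only [← Ideal.Quotient.algebraMap_eq, ← IsScalarTower.algebraMap_apply] using hxy
  -- it is enough to test after inverting one element `s` of `R` outside `p`
  obtain ⟨r₁, s₁, hs₁, he₁⟩ := hfrac c₁⁻¹
  obtain ⟨r₂, s₂, hs₂, he₂⟩ := hfrac c₂⁻¹
  let gs : B := algebraMap R B (s₁ * s₂)
  let S' := Localization.Away (algebraMap B S gs)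
  haveI : Algebra.Smooth R S' := Algebra.Smooth.comp R S S'
  have hgsu : IsUnit (θS (algebraMap B S gs)) := by
    rw [hθS]
    refine TrivSqZeroExt.isUnit_iff_isUnit_fst.2 (isUnit_iff_ne_zero.2 ?_)
    show (θ (algebraMap B A (algebraMap R B (s₁ * s₂)))).fst ≠ 0
    rw [← hφ, hθφ, fst_inl, Ne, Ideal.algebraMap_residueField_eq_zero]
    exact Ideal.IsPrime.mul_notMem ‹_› hs₁ hs₂
  let θ' : S' →+* Tan p := IsLocalization.Away.lift (algebraMap B S gs) hgsu
  let ι : B →+* S' := (algebraMap S S').comp (algebraMap B S)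
  have hθ' : ∀ b, θ' (ι b) = θB b := fun b => (IsLocalization.Away.lift_eq _ hgsu _).trans (hθS b)
  have hR : ∀ r, θ' (algebraMap R S' r) = inl (algebraMap R p.ResidueField r) := fun r => by
    rw [IsScalarTower.algebraMap_apply R S S', IsScalarTower.algebraMap_apply R B S]
    exact (hθ' _).trans ((congr_arg θ (hφ r)).symm.trans (hθφ r))
  have hunit : ∀ s : R, s ∣ s₁ * s₂ → IsUnit (algebraMap R S' s) := by
    intro s hs
    refine isUnit_of_dvd_unit (map_dvd _ hs) ?_
    rw [IsScalarTower.algebraMap_apply R S S', IsScalarTower.algebraMap_apply R B S]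
    exact IsLocalization.Away.algebraMap_isUnit _
  have hget : ∀ (b : B) (c : p.ResidueField) (v : p.ResidueField × p.ResidueField) (r s : R),
      θB b = inr (c • v) → c ≠ 0 → s ∣ s₁ * s₂ →
      c⁻¹ * algebraMap R p.ResidueField s = algebraMap R p.ResidueField r →
      ∃ x : S', θ' x = inr v := by
    intro b c v r s hb hc hs he
    obtain ⟨u, hu⟩ := hunit s hs
    refine ⟨↑u⁻¹ * algebraMap R S' r * ι b, ?_⟩
    have h1 : θ' (algebraMap R S' r) * θ' (ι b) = θ' (algebraMap R S' s) * inr v := by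
      rw [hR, hθ', hR, ← he, ← hscale b c v hb hc, TrivSqZeroExt.inl_mul]
      ring
    rw [map_mul, map_mul, mul_assoc, h1, ← mul_assoc, ← map_mul, ← hu, Units.inv_mul, map_one, one_mul]
  obtain ⟨x₁, hx₁⟩ := hget b₁ c₁ _ r₁ s₁ hb₁ hc₁ (Dvd.intro _ rfl) he₁
  obtain ⟨x₂, hx₂⟩ := hget b₂ c₂ _ r₂ s₂ hb₂ hc₂ (Dvd.intro_left _ rfl) he₂
  refine not_smooth p θ' hR x₁ x₂ hx₁ hx₂ fun Q₀ Q₁ h₀ h₁ hp h01 hz hx => ?_
  -- push the chain down to `A`
  have key : ∀ q : Ideal S', q.IsPrime → (∀ x ∈ q, (θ' x).fst = 0) →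
      ((q.comap ι).map (algebraMap B A)).IsPrime ∧
      ((q.comap ι).map (algebraMap B A)).comap (algebraMap B A) = q.comap ι ∧
      ((q.comap ι).map (algebraMap B A)) ≤ RingHom.ker (((TrivSqZeroExt.fstHom p.ResidueField
        p.ResidueField (p.ResidueField × p.ResidueField)).toRingHom).comp θ) := by
    intro q hq hq0
    have hd : Disjoint (m.primeCompl : Set B) (q.comap ι : Set B) := by
      rw [Set.disjoint_left]
      intro x hx hxq
      exact hQm x hx (by rw [← hθ']; exact hq0 _ hxq)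
    refine ⟨IsLocalization.isPrime_of_isPrime_disjoint m.primeCompl A _ (Ideal.IsPrime.comap _) hd,
      IsLocalization.comap_map_of_isPrime_disjoint m.primeCompl A (Ideal.IsPrime.comap _) hd, ?_⟩
    rw [Ideal.map_le_iff_le_comap]
    intro x hxq
    show (θB x).fst = 0
    rw [← hθ']; exact hq0 _ hxq
  have hz0 : ∀ x ∈ Q₀, (θ' x).fst = 0 := fun x hx => hz x (h01 hx)
  obtain ⟨hA0, hc0, -⟩ := key Q₀ h₀ hz0
  obtain ⟨hA1, hc1, hk1⟩ := key Q₁ h₁ hz
  -- every element of `S'` is a unit times an element of `B`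
  have hsurj : ∀ x : S', ∃ (b : B) (u : S'), IsUnit u ∧ x = u * ι b := by
    intro x
    obtain ⟨n, y, hy⟩ := IsLocalization.Away.surj (algebraMap B S gs) x
    obtain ⟨k, b, hb⟩ := IsLocalization.Away.surj g y
    obtain ⟨u, hu⟩ : IsUnit (algebraMap S S' (algebraMap B S gs) ^ n * algebraMap S S' (algebraMap B S g ^ k)) :=
      ((IsLocalization.Away.algebraMap_isUnit _).pow n).mul
        (((IsLocalization.Away.algebraMap_isUnit g).pow k).map _)
    refine ⟨b, ↑u⁻¹, u⁻¹.isUnit, ?_⟩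
    rw [eq_comm, Units.inv_mul_eq_iff_eq_mul, hu, RingHom.comp_apply, ← hb, map_mul, ← hy]
    ring
  have hext : Q₁.comap ι ≤ Q₀.comap ι → Q₀ = Q₁ := fun hle => le_antisymm h01 fun x hx => by
    obtain ⟨b, u, hu, rfl⟩ := hsurj x
    exact Ideal.mul_mem_left _ _ (hle ((Ideal.unit_mul_mem_iff_mem _ hu).1 hx))
  refine hext (le_of_eq ?_)
  rw [← hc1, ← hc0]
  refine congr_arg _ (hchain _ _ hA0 hA1 ?_ (Ideal.map_mono (Ideal.comap_mono h01))
    (fun x hx => hk1 hx) ?_).symm
  · rw [Ideal.map_le_iff_le_comap]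
    intro r hr
    show φ r ∈ Ideal.map (algebraMap B A) (Ideal.comap ι Q₀)
    rw [hφ]
    refine Ideal.mem_map_of_mem _ ?_
    show ι (algebraMap R B r) ∈ Q₀
    have : algebraMap R S' r ∈ Q₀ := hp (Ideal.mem_map_of_mem _ hr)
    rwa [IsScalarTower.algebraMap_apply R S S', IsScalarTower.algebraMap_apply R B S] at this
  · obtain ⟨x, hx0, hx1⟩ := hx
    obtain ⟨b, u, hu, rfl⟩ := hsurj x
    refine ⟨algebraMap B A b, ?_, fun hb => hx1 (Ideal.mul_mem_left _ _ ?_)⟩
    · show (θB b).fst = 0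
      rw [← hθ']
      rw [map_mul, TrivSqZeroExt.fst_mul] at hx0
      exact (mul_eq_zero.1 hx0).resolve_left
        (TrivSqZeroExt.isUnit_iff_isUnit_fst.1 (hu.map θ')).ne_zero
    · have : b ∈ ((Q₁.comap ι).map (algebraMap B A)).comap (algebraMap B A) := hb
      rwa [hc1] at this

end Groth.Agent.L13.ThickNode
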