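import Groth.Agent.L13.ThickNode.Tangent
import Groth.Agent.L03.GeomRegular
import Mathlib.RingTheory.LocalRing.ResidueField.Fiber
import Mathlib.RingTheory.KrullDimension.Basic
import Mathlib.RingTheory.Localization.AtPrime.Basic

/-! A node of thickness in `p` is not a smooth point over `p`. -/

set_option autoImplicit false
set_option maxSynthPendingDepth 3
universe u

open IsLocalRing TrivSqZeroExt TensorProduct

namespace Groth.Agent.L13.ThickNode

variable {R : Type u} [CommRing R] (p : Ideal R) [p.IsPrime]

/-- No smooth algebra maps to the dual numbers in two variables over `κ(p)` with surjective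
differential if below the corresponding point there is at most one step in the fibre. -/
theorem not_smooth {S : Type u} [CommRing S] [Algebra R S] [Algebra.Smooth R S] (θ : S →+* Tan p)
    (hθ : ∀ r, θ (algebraMap R S r) = inl (algebraMap R p.ResidueField r))
    (α β : S) (hα : θ α = inr (1, 0)) (hβ : θ β = inr (0, 1))
    (hchain : ∀ Q₀ Q₁ : Ideal S, Q₀.IsPrime → Q₁.IsPrime → p.map (algebraMap R S) ≤ Q₀ → Q₀ ≤ Q₁ →
      (∀ x ∈ Q₁, (θ x).fst = 0) → (∃ x, (θ x).fst = 0 ∧ x ∉ Q₁) → Q₀ = Q₁) : False := by
  classical
  let θR : S →ₐ[R] Tan p :=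
    { θ with commutes' := fun r => (hθ r).trans (TrivSqZeroExt.algebraMap_eq_inl' _ _ _ r).symm }
  let F := p.Fiber S
  let θF : F →ₐ[p.ResidueField] Tan p :=
    Algebra.TensorProduct.lift (Algebra.ofId p.ResidueField (Tan p)) θR (fun _ _ => Commute.all _ _)
  let inc : S →+* F := (Algebra.TensorProduct.includeRight : S →ₐ[R] F).toRingHom
  have hinc : ∀ s, θF (inc s) = θ s := fun s => by
    show Algebra.TensorProduct.lift (Algebra.ofId p.ResidueField (Tan p)) θR
      (fun _ _ => Commute.all _ _) (1 ⊗ₜ[R] s) = θ s
    simp [θR]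
  let π : F →+* p.ResidueField :=
    ((TrivSqZeroExt.fstHom p.ResidueField p.ResidueField (p.ResidueField × p.ResidueField)).toRingHom).comp
      θF.toRingHom
  have hπ : ∀ x, π x = (θF x).fst := fun _ => rfl
  let q : Ideal F := RingHom.ker π
  haveI hq : q.IsPrime := RingHom.ker_isPrime π
  haveI : Algebra.Smooth p.ResidueField F := inferInstanceAs (Algebra.Smooth p.ResidueField (p.ResidueField ⊗[R] S))
  haveI : IsRegularRing F := Groth.L03.GeomRegular.isRegularRing_of_smooth p.ResidueField F
  haveI : IsRegularLocalRing (Localization.AtPrime q) := (isRegularRing_iff (R := F)).1 inferInstance q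
  let L := Localization.AtPrime q
  -- the extension to the local ring
  have hu : ∀ y : q.primeCompl, IsUnit (θF.toRingHom y.1) := fun y =>
    TrivSqZeroExt.isUnit_iff_isUnit_fst.2 (isUnit_iff_ne_zero.2 fun h => y.2 ((hπ y.1).trans h))
  let θL : L →+* Tan p := IsLocalization.lift hu
  have hθL : ∀ x, θL (algebraMap F L x) = θF x := fun x => IsLocalization.lift_eq hu x
  have hmax : ∀ z ∈ maximalIdeal L, (θL z).fst = 0 := by
    intro z hz
    obtain ⟨⟨x, s⟩, hxs⟩ := IsLocalization.surj q.primeCompl z
    have hx : x ∈ q := by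
      rw [← IsLocalization.AtPrime.to_map_mem_maximal_iff L q]
      exact hxs ▸ Ideal.mul_mem_right _ _ hz
    have := congr_arg (fun w => (θL w).fst) hxs
    simp only [map_mul, hθL, TrivSqZeroExt.fst_mul] at this
    rw [show (θF x).fst = 0 from hx] at this
    rcases mul_eq_zero.1 this with h | h
    · exact h
    · exact absurd h (fun h => s.2 h)
  have hht : q.height ≤ 1 := by
    by_contra hlt
    have h2 : (2 : ℕ∞) ≤ Order.height (⟨q, hq⟩ : PrimeSpectrum F) := by
      rw [← PrimeSpectrum.height_eq_orderHeight, show (2 : ℕ∞) = 1 + 1 from rfl]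
      exact Order.add_one_le_of_lt (not_le.1 hlt)
    obtain ⟨s, hlast, hlen⟩ := Order.exists_series_of_le_height _ h2
    let f : PrimeSpectrum F → PrimeSpectrum S := fun Q => ⟨Q.asIdeal.comap inc, Ideal.IsPrime.comap _⟩
    have hf : Function.Injective f := by
      intro Q Q' h
      apply (PrimeSpectrum.preimageEquivFiber R S ⟨p, ‹_›⟩).symm.injective
      exact Subtype.ext h
    have hlen' : s.length = 2 := by exact_mod_cast hlen
    have h01 : s ⟨0, by omega⟩ < s ⟨1, by omega⟩ := s.strictMono (Fin.mk_lt_mk.2 Nat.zero_lt_one)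
    have h12 : s ⟨1, by omega⟩ < ⟨q, hq⟩ := by
      rw [← hlast]; exact s.strictMono (by simp [Fin.lt_def, hlen'])
    refine h01.ne (hf ?_)
    apply PrimeSpectrum.ext
    refine hchain _ _ (f _).2 (f _).2 ?_ (Ideal.comap_mono h01.le) ?_ ?_
    · rw [Ideal.map_le_iff_le_comap]
      intro r hr
      rw [Ideal.mem_comap]
      show inc (algebraMap R S r) ∈ (s ⟨0, by omega⟩).asIdeal
      have : inc (algebraMap R S r) = algebraMap p.ResidueField F (algebraMap R p.ResidueField r) := by
        rw [← IsScalarTower.algebraMap_apply]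
        exact (Algebra.TensorProduct.includeRight : S →ₐ[R] F).commutes r
      rw [this, Ideal.algebraMap_residueField_eq_zero.2 hr, map_zero]
      exact zero_mem _
    · intro x hx
      rw [← hinc]
      exact h12.le hx
    · by_contra hno
      push Not at hno
      apply h12.ne
      refine hf (PrimeSpectrum.ext (le_antisymm (Ideal.comap_mono h12.le) fun x hx => hno x ?_))
      rw [← hinc]
      exact hx
  have hdim : (maximalIdeal L).spanFinrank ≤ 1 := by
    have h := IsRegularLocalRing.spanFinrank_maximalIdeal (R := L)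
    rw [IsLocalization.AtPrime.ringKrullDim_eq_height q L] at h
    have : ((maximalIdeal L).spanFinrank : ℕ∞) ≤ 1 := by
      rw [show ((maximalIdeal L).spanFinrank : ℕ∞) = q.height from WithBot.coe_injective h]; exact hht
    exact_mod_cast this
  have hfg : (maximalIdeal L).FG := IsNoetherian.noetherian _
  obtain ⟨t, htm, ht⟩ : ∃ t ∈ maximalIdeal L, maximalIdeal L ≤ Ideal.span {t} := by
    have hfin := Submodule.FG.finite_generators hfg
    have hcard := (Submodule.FG.generators_ncard hfg).le.trans hdim
    rcases (Submodule.generators (maximalIdeal L)).eq_empty_or_nonempty with h | ⟨t, ht⟩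
    · refine ⟨0, zero_mem _, ?_⟩
      conv_lhs => rw [← Submodule.span_generators (maximalIdeal L), h]
      simp
    · refine ⟨t, Submodule.span_generators (maximalIdeal L) ▸ Submodule.subset_span ht, ?_⟩
      conv_lhs => rw [← Submodule.span_generators (maximalIdeal L)]
      exact Submodule.span_mono fun x hx => (Set.ncard_le_one hfin).1 hcard x hx t ht
  have hline : ∀ (z : S) (v : p.ResidueField × p.ResidueField), θ z = inr v →
      ∃ c : p.ResidueField, v = c • (θL t).snd := by
    intro z v hz
    have hmem : algebraMap F L (inc z) ∈ maximalIdeal L := by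
      rw [IsLocalization.AtPrime.to_map_mem_maximal_iff L q]
      show π (inc z) = 0
      rw [hπ, hinc, hz, fst_inr]
    obtain ⟨c, hc⟩ := Ideal.mem_span_singleton'.1 (ht hmem)
    refine ⟨(θL c).fst, ?_⟩
    have := congr_arg (fun w => (θL w).snd) hc
    simp only [map_mul, hθL, hinc, hz, TrivSqZeroExt.snd_mul, snd_inr, hmax t htm] at this
    simpa using this.symm
  obtain ⟨c, hc⟩ := hline α _ hα
  obtain ⟨d, hd⟩ := hline β _ hβ
  have h1 := congr_arg Prod.fst hc
  have h2 := congr_arg Prod.snd hc
  have h3 := congr_arg Prod.snd hd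
  simp only [Prod.smul_fst, Prod.smul_snd, smul_eq_mul] at h1 h2 h3
  have hc0 : c ≠ 0 := fun h => one_ne_zero (by rw [h1, h, zero_mul])
  rw [(mul_eq_zero.1 h2.symm).resolve_left hc0, mul_zero] at h3
  exact one_ne_zero h3

end Groth.Agent.L13.ThickNode
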