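import Groth.Prelude.Def_DualGr
import Groth.Agent.L06.CTensPS
import Mathlib.RingTheory.AdicCompletion.LocalRing
import Mathlib.RingTheory.AdicCompletion.AsTensorProduct
import Mathlib.RingTheory.Ideal.GoingDown
import Mathlib.RingTheory.Flat.Basic
import Mathlib.RingTheory.MvPowerSeries.Equiv
import Mathlib.RingTheory.Nakayama
import Mathlib.Algebra.TrivSqZeroExt.Basic
import Mathlib.Tactic.Ring

/-! The two-dimensional tangent space of a formal node at a prime containing its thickness. -/

set_option autoImplicit false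
universe u

open IsLocalRing TrivSqZeroExt

namespace Groth.Agent.L13.ThickNode

variable {R : Type u} [CommRing R]

theorem coeff_single_one_mul {σ : Type*} [DecidableEq σ] (i : σ) (f g : MvPowerSeries σ R) :
    MvPowerSeries.coeff (Finsupp.single i 1) (f * g) =
      MvPowerSeries.constantCoeff f * MvPowerSeries.coeff (Finsupp.single i 1) g +
      MvPowerSeries.coeff (Finsupp.single i 1) f * MvPowerSeries.constantCoeff g := by
  rw [MvPowerSeries.coeff_mul, Finsupp.antidiagonal_single, Finset.sum_map]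
  simp [Finset.Nat.antidiagonal_succ, MvPowerSeries.coeff_zero_eq_constantCoeff]

/-- The linear coefficients of a power series in two variables, modulo `p`. -/
noncomputable def lin (p : Ideal R) (f : MvPowerSeries (Fin 2) R) : (R ⧸ p) × (R ⧸ p) :=
  (Ideal.Quotient.mk p (MvPowerSeries.coeff (Finsupp.single 0 1) f),
   Ideal.Quotient.mk p (MvPowerSeries.coeff (Finsupp.single 1 1) f))

theorem lin_add (p : Ideal R) (f g : MvPowerSeries (Fin 2) R) :
    lin p (f + g) = lin p f + lin p g := by simp [lin]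

theorem lin_mul (p : Ideal R) (f g : MvPowerSeries (Fin 2) R) :
    lin p (f * g) = MvPowerSeries.constantCoeff f • lin p g + MvPowerSeries.constantCoeff g • lin p f := by
  refine Prod.ext ?_ ?_ <;>
    simp only [lin, coeff_single_one_mul, map_add, map_mul, Prod.fst_add, Prod.snd_add, Prod.smul_fst,
      Prod.smul_snd, Algebra.smul_def, Prod.fst_mul, Prod.snd_mul, Prod.algebraMap_apply,
      Ideal.Quotient.algebraMap_eq] <;> ring

theorem lin_C (p : Ideal R) (r : R) : lin p (MvPowerSeries.C r) = 0 := by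
  classical
  simp [lin, MvPowerSeries.coeff_C, Finsupp.single_eq_zero]

variable (p : Ideal R) [p.IsPrime]

/-- The dual numbers in two variables over the residue field of `p`. -/
abbrev Tan := TrivSqZeroExt p.ResidueField (p.ResidueField × p.ResidueField)

noncomputable def toK : R ⧸ p →+* p.ResidueField := algebraMap (R ⧸ p) p.ResidueField

theorem toK_mk (r : R) : toK p (Ideal.Quotient.mk p r) = algebraMap R p.ResidueField r := by
  rw [toK, ← Ideal.Quotient.algebraMap_eq, ← IsScalarTower.algebraMap_apply]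

noncomputable def toPair (w : (R ⧸ p) × (R ⧸ p)) : p.ResidueField × p.ResidueField :=
  (toK p w.1, toK p w.2)

theorem toPair_smul (r : R) (w : (R ⧸ p) × (R ⧸ p)) :
    toPair p (r • w) = algebraMap R p.ResidueField r • toPair p w := by
  simp [toPair, Algebra.smul_def, toK_mk, Ideal.Quotient.algebraMap_eq]

/-- Taylor expansion to first order at `p`. -/
noncomputable def taylor : MvPowerSeries (Fin 2) R →+* Tan p where
  toFun f := inl (algebraMap R p.ResidueField (MvPowerSeries.constantCoeff f)) + inr (toPair p (lin p f))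
  map_one' := by
    refine TrivSqZeroExt.ext (by simp) ?_
    rw [← map_one (MvPowerSeries.C (σ := Fin 2) (R := R)), lin_C]
    simp [toPair]
  map_mul' f g := by
    refine TrivSqZeroExt.ext (by simp) ?_
    rw [lin_mul]
    simp only [snd_add, snd_inl, snd_inr, zero_add, snd_mul, fst_add, fst_inl, fst_inr, add_zero,
      op_smul_eq_smul, ← toPair_smul]
    simp [toPair]
  map_zero' := by refine TrivSqZeroExt.ext (by simp) (by simp [toPair, lin])
  map_add' f g := by
    refine TrivSqZeroExt.ext (by simp) ?_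
    simp [toPair, lin]

theorem fst_taylor (f : MvPowerSeries (Fin 2) R) :
    (taylor p f).fst = algebraMap R p.ResidueField (MvPowerSeries.constantCoeff f) := by
  simp [taylor]

theorem snd_taylor (f : MvPowerSeries (Fin 2) R) : (taylor p f).snd = toPair p (lin p f) := by
  simp [taylor]

/-- Density of a Noetherian local ring in its completion, to first order. -/
theorem sub_algebraMap_mem_sq {A : Type u} [CommRing A] [IsNoetherianRing A] [IsLocalRing A]
    (z : Curv2.cpl A) :
    ∃ α : A, z - algebraMap A (Curv2.cpl A) α ∈ maximalIdeal (Curv2.cpl A) ^ 2 := by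
  have hsur : ∀ z : Curv2.cpl A, ∃ α : A, z - algebraMap A (Curv2.cpl A) α ∈ maximalIdeal (Curv2.cpl A) := by
    intro z
    obtain ⟨y, hy⟩ := (AdicCompletion.residueField_map_bijective A).2 (residue _ z)
    obtain ⟨α, rfl⟩ := residue_surjective y
    refine ⟨α, (residue_eq_zero_iff _).1 ?_⟩
    rw [map_sub, sub_eq_zero, ← hy]
    rfl
  obtain ⟨α, hα⟩ := hsur z
  suffices h : ∀ x ∈ maximalIdeal (Curv2.cpl A), ∃ β ∈ maximalIdeal A,
      x - algebraMap A (Curv2.cpl A) β ∈ maximalIdeal (Curv2.cpl A) ^ 2 by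
    obtain ⟨β, -, hβ⟩ := h _ hα
    exact ⟨α + β, by rw [map_add, ← sub_sub]; exact hβ⟩
  intro x hx
  have hm : maximalIdeal (Curv2.cpl A) = (maximalIdeal A).map (algebraMap A (Curv2.cpl A)) :=
    AdicCompletion.maximalIdeal_eq_map
  have hle : ∀ y ∈ maximalIdeal A, algebraMap A (Curv2.cpl A) y ∈ maximalIdeal (Curv2.cpl A) :=
    fun y hy => hm ▸ Ideal.mem_map_of_mem _ hy
  rw [hm, Ideal.map] at hx
  induction hx using Submodule.span_induction with
  | mem y hy =>
    obtain ⟨b, hb, rfl⟩ := hy
    exact ⟨b, hb, by rw [sub_self]; exact zero_mem _⟩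
  | zero => exact ⟨0, zero_mem _, by rw [map_zero, sub_zero]; exact zero_mem _⟩
  | add y y' _ _ hy hy' =>
    obtain ⟨b, hb, hb1⟩ := hy
    obtain ⟨b', hb', hb1'⟩ := hy'
    refine ⟨b + b', add_mem hb hb', ?_⟩
    rw [map_add, add_sub_add_comm]
    exact add_mem hb1 hb1'
  | smul c y _ hy =>
    obtain ⟨b, hb, hb1⟩ := hy
    obtain ⟨γ, hγ⟩ := hsur c
    refine ⟨γ * b, Ideal.mul_mem_left _ _ hb, ?_⟩
    rw [smul_eq_mul, map_mul, show c * y - algebraMap A (Curv2.cpl A) γ * algebraMap A (Curv2.cpl A) b =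
      c * (y - algebraMap A (Curv2.cpl A) b) +
      (c - algebraMap A (Curv2.cpl A) γ) * algebraMap A (Curv2.cpl A) b by ring]
    refine add_mem (Ideal.mul_mem_left _ _ hb1) ?_
    rw [pow_two]
    exact Ideal.mul_mem_mul hγ (hle b hb)

theorem exists_tangent [IsNoetherianRing R] [IsLocalRing R] [IsAdicComplete (maximalIdeal R) R]
    {A : Type u} [CommRing A] [IsNoetherianRing A] [IsLocalRing A]
    {φ : R →+* A} {a : R} (h : DualGr.IsThickNode φ a) (ha : a ∈ p) :
    ∃ θ : A →+* Tan p, (∀ r, θ (φ r) = inl (algebraMap R p.ResidueField r)) ∧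
      (∃ α β : A, θ α = inr (1, 0) ∧ θ β = inr (0, 1)) ∧
      ∀ Q₀ Q₁ : Ideal A, Q₀.IsPrime → Q₁.IsPrime → p.map φ ≤ Q₀ → Q₀ ≤ Q₁ →
        (∀ x ∈ Q₁, (θ x).fst = 0) → (∃ x, (θ x).fst = 0 ∧ x ∉ Q₁) → Q₀ = Q₁ := by
  classical
  obtain ⟨e, he⟩ := h
  let ι : R ≃ₐ[R] Curv2.cpl R := AdicCompletion.ofAlgEquiv (maximalIdeal R)
  let red : MvPowerSeries (Fin 2) (Curv2.cpl R) →+* MvPowerSeries (Fin 2) R :=
    MvPowerSeries.map (ι.symm : Curv2.cpl R →+* R)
  have hredC : ∀ r : R, red (MvPowerSeries.C (algebraMap R (Curv2.cpl R) r)) = MvPowerSeries.C r := by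
    intro r
    simp only [red, MvPowerSeries.map_C]
    congr 1
    exact ι.symm.commutes r
  have hkill : Ideal.span {(MvPowerSeries.X 0 * MvPowerSeries.X 1 -
      MvPowerSeries.C (algebraMap R (Curv2.cpl R) a) : MvPowerSeries (Fin 2) (Curv2.cpl R))} ≤
      RingHom.ker ((taylor p).comp red) := by
    rw [Ideal.span_singleton_le_iff_mem, RingHom.mem_ker, RingHom.comp_apply, map_sub, hredC]
    have ha' : algebraMap R p.ResidueField a = 0 := Ideal.algebraMap_residueField_eq_zero.2 ha
    refine TrivSqZeroExt.ext ?_ ?_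
    · simp [fst_taylor, red, ha']
    · simp [fst_taylor, snd_taylor, red, lin_mul, lin_C, toPair]
  let θN : DualGr.nodeRing R a →+* Tan p := Ideal.Quotient.lift _ ((taylor p).comp red)
    fun x hx => hkill hx
  let ρ : A →+* DualGr.nodeRing R a := (e : Curv2.cpl A →+* DualGr.nodeRing R a).comp (algebraMap A _)
  let linN : A → (R ⧸ p) × (R ⧸ p) := fun x => lin p (red (Quotient.out (ρ x)))
  have hθlin : ∀ x, (θN (ρ x)).snd = toPair p (linN x) := by
    intro x
    conv_lhs => rw [← Quotient.out_eq (ρ x)]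
    exact snd_taylor p _
  have hρC : ∀ r, ρ (φ r) = Ideal.Quotient.mk _ (MvPowerSeries.C (algebraMap R (Curv2.cpl R) r)) :=
    fun r => he r
  refine ⟨θN.comp ρ, fun r => ?_, ?_, ?_⟩
  · rw [RingHom.comp_apply, hρC, Ideal.Quotient.lift_mk, RingHom.comp_apply, hredC]
    refine TrivSqZeroExt.ext ?_ ?_
    · simp [fst_taylor]
    · simp [snd_taylor, lin_C, toPair]
  · -- surjectivity of the differential
    let M : Submodule R ((R ⧸ p) × (R ⧸ p)) :=
      { carrier := {w | ∃ x : A, (θN (ρ x)).snd = toPair p w}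
        zero_mem' := ⟨0, by simp [toPair]; rfl⟩
        add_mem' := by
          rintro w w' ⟨x, hx⟩ ⟨x', hx'⟩
          exact ⟨x + x', by rw [map_add, map_add, snd_add, hx, hx']; simp [toPair]⟩
        smul_mem' := by
          rintro r w ⟨x, hx⟩
          refine ⟨φ r * x, ?_⟩
          rw [map_mul, map_mul, snd_mul, hx, hρC, Ideal.Quotient.lift_mk, RingHom.comp_apply, hredC,
            fst_taylor, snd_taylor, lin_C, toPair_smul]
          simp [toPair] }
    have hsq : ∀ y ∈ maximalIdeal (Curv2.cpl A) ^ 2,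
        ∃ w ∈ (maximalIdeal R) • (⊤ : Submodule R ((R ⧸ p) × (R ⧸ p))), (θN (e y)).snd = toPair p w := by
      intro y hy
      rw [pow_two] at hy
      induction hy using Submodule.mul_induction_on' with
      | mem_mul_mem u hu v hv =>
        obtain ⟨f, hf⟩ := Ideal.Quotient.mk_surjective (e u)
        obtain ⟨g, hg⟩ := Ideal.Quotient.mk_surjective (e v)
        have key : ∀ {u : Curv2.cpl A} {f : MvPowerSeries (Fin 2) (Curv2.cpl R)},
            u ∈ maximalIdeal (Curv2.cpl A) → Ideal.Quotient.mk _ f = e u →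
            MvPowerSeries.constantCoeff (red f) ∈ maximalIdeal R := by
          intro u f hu hf
          rw [IsLocalRing.mem_maximalIdeal, mem_nonunits_iff] at hu ⊢
          intro hc
          apply hu
          have hf' : IsUnit f := MvPowerSeries.isUnit_iff_constantCoeff.2 (by
            have := hc.map (ι : R →+* Curv2.cpl R)
            simpa [red] using this)
          have : IsUnit (e u) := hf ▸ hf'.map (Ideal.Quotient.mk _)
          simpa using this.map e.symm
        refine ⟨lin p (red f * red g), ?_, ?_⟩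
        · rw [lin_mul]
          exact add_mem (Submodule.smul_mem_smul (key hu hf) Submodule.mem_top)
            (Submodule.smul_mem_smul (key hv hg) Submodule.mem_top)
        · rw [map_mul, ← hf, ← hg, ← map_mul, Ideal.Quotient.lift_mk, RingHom.comp_apply, map_mul red,
            snd_taylor]
      | add u _ v _ hu hv =>
        obtain ⟨w, hw, hw1⟩ := hu
        obtain ⟨w', hw', hw1'⟩ := hv
        exact ⟨w + w', add_mem hw hw', by rw [map_add, map_add, snd_add, hw1, hw1']; simp [toPair]⟩
    have htop : M = ⊤ := by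
      refine top_le_iff.1 (Submodule.le_of_le_smul_of_le_jacobson_bot (I := maximalIdeal R)
        (Module.Finite.fg_top) (IsLocalRing.jacobson_eq_maximalIdeal ⊥ bot_ne_top).ge ?_)
      rintro ⟨w0, w1⟩ -
      obtain ⟨r0, rfl⟩ := Ideal.Quotient.mk_surjective w0
      obtain ⟨r1, rfl⟩ := Ideal.Quotient.mk_surjective w1
      let z : DualGr.nodeRing R a := Ideal.Quotient.mk _
        (MvPowerSeries.C (algebraMap R (Curv2.cpl R) r0) * MvPowerSeries.X 0 +
          MvPowerSeries.C (algebraMap R (Curv2.cpl R) r1) * MvPowerSeries.X 1)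
      obtain ⟨α, hα⟩ := sub_algebraMap_mem_sq (e.symm z)
      obtain ⟨w, hw, hw1⟩ := hsq _ hα
      rw [map_sub, e.apply_symm_apply, map_sub, snd_sub] at hw1
      have hz : (θN z).snd = toPair p (Ideal.Quotient.mk p r0, Ideal.Quotient.mk p r1) := by
        rw [Ideal.Quotient.lift_mk, RingHom.comp_apply, snd_taylor]
        congr 1
        simp only [map_add, map_mul, hredC, lin_add, lin_mul, lin_C]
        simp [red, lin, MvPowerSeries.coeff_X, Finsupp.single_eq_single_iff, Algebra.smul_def,
          Ideal.Quotient.algebraMap_eq]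
      refine Submodule.mem_sup.2 ⟨(Ideal.Quotient.mk p r0, Ideal.Quotient.mk p r1) - w, ⟨α, ?_⟩, w, hw, sub_add_cancel _ _⟩
      rw [show (θN (ρ α)).snd = (θN z).snd - toPair p w by rw [← hw1]; simp [ρ], hz]
      simp [toPair]
    obtain ⟨α, hα⟩ : ((1, 0) : (R ⧸ p) × (R ⧸ p)) ∈ M := htop ▸ Submodule.mem_top
    obtain ⟨β, hβ⟩ : ((0, 1) : (R ⧸ p) × (R ⧸ p)) ∈ M := htop ▸ Submodule.mem_top
    -- subtract the constant terms
    have adj : ∀ x : A, ∃ x' : A, θN (ρ x') = inr (θN (ρ x)).snd := by
      intro x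
      obtain ⟨f, hf⟩ := Ideal.Quotient.mk_surjective (ρ x)
      refine ⟨x - φ (MvPowerSeries.constantCoeff (red f)), TrivSqZeroExt.ext ?_ ?_⟩
      · rw [map_sub, map_sub, fst_sub, hρC, ← hf]
        simp only [θN, Ideal.Quotient.lift_mk, RingHom.comp_apply, hredC, fst_taylor, fst_inr]
        simp
      · rw [map_sub, map_sub, snd_sub, hρC]
        simp only [θN, Ideal.Quotient.lift_mk, RingHom.comp_apply, hredC, snd_taylor, snd_inr]
        simp [lin_C, toPair]
    obtain ⟨α', hα'⟩ := adj α
    obtain ⟨β', hβ'⟩ := adj β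
    refine ⟨α', β', ?_, ?_⟩
    · rw [RingHom.comp_apply, hα', hα]; simp [toPair]
    · rw [RingHom.comp_apply, hβ', hβ]; simp [toPair]
  · -- at most one step below the node prime
    intro Q₀ Q₁ hQ₀ hQ₁ hp0 h01 hQ1 hx
    have hNoeth : IsNoetherianRing (DualGr.nodeRing R a) := by
      haveI : IsNoetherianRing (Curv2.cpl R) := isNoetherianRing_of_ringEquiv R ι.toRingEquiv
      infer_instance
    haveI : IsLocalRing (DualGr.nodeRing R a) := RingEquiv.isLocalRing e
    let π : DualGr.nodeRing R a →+* p.ResidueField :=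
      ((TrivSqZeroExt.fstHom p.ResidueField p.ResidueField (p.ResidueField × p.ResidueField)).toRingHom).comp θN
    let P : Ideal (Curv2.cpl A) := (RingHom.ker π).comap (e : Curv2.cpl A →+* DualGr.nodeRing R a)
    haveI : (RingHom.ker π).IsPrime := RingHom.ker_isPrime π
    haveI hP : P.IsPrime := Ideal.IsPrime.comap _
    haveI : Module.Flat A (Curv2.cpl A) := AdicCompletion.flat_of_isNoetherian _
    haveI := hQ₀
    haveI := hQ₁
    have hQ1P : Q₁ ≤ P.under A := fun x hx' => by
      show π (ρ x) = 0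
      exact hQ1 x hx'
    haveI : P.LiesOver (P.under A) := ⟨rfl⟩
    obtain ⟨P₁, hP1P, hP1p, hP1o⟩ := Ideal.exists_ideal_le_liesOver_of_le P hQ1P
    haveI := hP1p
    haveI := hP1o
    obtain ⟨P₀, hP01, hP0p, hP0o⟩ := Ideal.exists_ideal_le_liesOver_of_le P₁ h01
    haveI := hP0p
    haveI := hP0o
    suffices P₁ ≤ P₀ by
      exact le_antisymm h01 fun x hx' => by
        rw [P₀.over_def Q₀]; exact this (by rw [P₁.over_def Q₁] at hx'; exact hx')
    let N₀ : Ideal (DualGr.nodeRing R a) := P₀.comap (e.symm : DualGr.nodeRing R a →+* Curv2.cpl A)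
    let N₁ : Ideal (DualGr.nodeRing R a) := P₁.comap (e.symm : DualGr.nodeRing R a →+* Curv2.cpl A)
    suffices N₁ ≤ N₀ by
      intro y hy
      have : e y ∈ N₀ := this (by show e.symm (e y) ∈ P₁; rwa [e.symm_apply_apply])
      simpa [N₀] using this
    have hCp : ∀ r ∈ p, Ideal.Quotient.mk _ (MvPowerSeries.C (algebraMap R (Curv2.cpl R) r)) ∈ N₀ := by
      intro r hr
      rw [← hρC]
      show e.symm (e (algebraMap A _ (φ r))) ∈ P₀
      rw [e.symm_apply_apply, ← Ideal.mem_comap]
      show φ r ∈ P₀.under A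
      rw [← P₀.over_def Q₀]
      exact hp0 (Ideal.mem_map_of_mem _ hr)
    have hN01 : N₀ ≤ N₁ := Ideal.comap_mono hP01
    have hN1P : N₁ ≤ RingHom.ker π := fun y hy => by
      have h' : π (e (e.symm y)) = 0 := hP1P hy
      rwa [e.apply_symm_apply] at h'
    let X' : Fin 2 → DualGr.nodeRing R a := fun i => Ideal.Quotient.mk _ (MvPowerSeries.X i)
    have hdec : RingHom.ker π ≤ N₀ ⊔ Ideal.span (Set.range X') := by
      intro y hy
      obtain ⟨f, rfl⟩ := Ideal.Quotient.mk_surjective y
      have hc : MvPowerSeries.constantCoeff (red f) ∈ p := by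
        rw [RingHom.mem_ker] at hy
        rw [← Ideal.algebraMap_residueField_eq_zero, ← hy]
        simp [π, θN, fst_taylor]
      obtain ⟨c0, hc0⟩ : ∃ c0, MvPowerSeries.constantCoeff (red f) = c0 := ⟨_, rfl⟩
      have hC0 : algebraMap R (Curv2.cpl R) c0 = MvPowerSeries.constantCoeff f := by
        rw [← hc0]
        simp only [red, ← MvPowerSeries.coeff_zero_eq_constantCoeff, MvPowerSeries.coeff_map]
        exact ι.apply_symm_apply _
      have hmem : f - MvPowerSeries.C (MvPowerSeries.constantCoeff f) ∈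
          Ideal.span (MvPowerSeries.X '' ((Finset.univ : Finset (Fin 2)) : Set (Fin 2))) := by
        rw [Groth.L06.CTens.mem_span_X_iff]
        intro d hd
        obtain rfl : d = 0 := Finsupp.ext fun i => hd i (Finset.mem_univ i)
        simp
      rw [← sub_add_cancel f (MvPowerSeries.C (MvPowerSeries.constantCoeff f)), map_add]
      refine add_mem (Submodule.mem_sup_right ?_) (Submodule.mem_sup_left ?_)
      · have := Ideal.mem_map_of_mem (Ideal.Quotient.mk (Ideal.span {(MvPowerSeries.X 0 *
          MvPowerSeries.X 1 - MvPowerSeries.C (algebraMap R (Curv2.cpl R) a) : MvPowerSeries (Fin 2) (Curv2.cpl R))})) hmem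
        rw [Ideal.map_span, ← Set.image_comp, Finset.coe_univ, Set.image_univ] at this
        exact this
      · rw [← hC0]; exact hCp _ (hc0 ▸ hc)
    haveI : N₀.IsPrime := Ideal.IsPrime.comap _
    haveI : N₁.IsPrime := Ideal.IsPrime.comap _
    have hmul : X' 0 * X' 1 ∈ N₀ := by
      have := hCp a ha
      rwa [show X' 0 * X' 1 = Ideal.Quotient.mk _ (MvPowerSeries.C (algebraMap R (Curv2.cpl R) a)) from by
        rw [← map_mul]
        exact Ideal.Quotient.eq.2 (Ideal.mem_span_singleton_self _)]
    obtain ⟨i, hi⟩ : ∃ i : Fin 2, X' i ∈ N₀ := by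
      rcases Ideal.IsPrime.mem_or_mem inferInstance hmul with h' | h' <;> exact ⟨_, h'⟩
    let w := X' (1 - i)
    have hdec' : RingHom.ker π ≤ N₀ ⊔ Ideal.span {w} := by
      refine hdec.trans (sup_le le_sup_left (Ideal.span_le.2 ?_))
      rintro _ ⟨j, rfl⟩
      by_cases hj : j = i
      · subst hj; exact Submodule.mem_sup_left hi
      · have : j = 1 - i := by clear * - hj; revert i j; decide
        subst this; exact Submodule.mem_sup_right (Ideal.mem_span_singleton_self _)
    have hw : w ∉ N₁ := by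
      intro hw
      obtain ⟨x, hx0, hx1⟩ := hx
      apply hx1
      have hle : RingHom.ker π ≤ N₁ := hdec'.trans (sup_le hN01 ((Ideal.span_singleton_le_iff_mem _).2 hw))
      have : e (algebraMap A _ x) ∈ N₁ := hle hx0
      rw [P₁.over_def Q₁]
      show algebraMap A (Curv2.cpl A) x ∈ P₁
      simpa [N₁] using this
    refine Submodule.le_of_le_smul_of_le_jacobson_bot (I := Ideal.span {w})
      (IsNoetherian.noetherian N₁) ?_ ?_
    · rw [IsLocalRing.jacobson_eq_maximalIdeal ⊥ bot_ne_top, Ideal.span_singleton_le_iff_mem]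
      intro hu
      have h1 : π w = 0 := by simp [π, w, X', θN, fst_taylor, red]
      exact (hu.map π).ne_zero h1
    · intro y hy
      obtain ⟨g, hg, v, hv, rfl⟩ := Submodule.mem_sup.1 (hdec' (hN1P hy))
      obtain ⟨k, rfl⟩ := Ideal.mem_span_singleton'.1 hv
      have hk : k * w ∈ N₁ := by simpa using sub_mem hy (hN01 hg)
      refine Submodule.add_mem_sup hg ?_
      have := Submodule.smul_mem_smul (Ideal.mem_span_singleton_self w)
        ((Ideal.IsPrime.mem_or_mem inferInstance hk).resolve_right hw)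
      convert this using 1
      exact mul_comm _ _

end Groth.Agent.L13.ThickNode
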